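import Groth.Agent.L22.Ideal
import Groth.Prelude.Def_Frob
import Mathlib.AlgebraicGeometry.Morphisms.Affine
import Mathlib.FieldTheory.IsAlgClosed.AlgebraicClosure

/-!
Geometric Frobenius twists: pulled back sections are `q`-th powers.
-/

set_option autoImplicit false
universe u

open CategoryTheory CategoryTheory.Limits AlgebraicGeometry TopologicalSpace

namespace Groth.L04.FrobTwist

theorem appLE_hom_congr {X Y : Scheme.{u}} {f g : X ⟶ Y} (hfg : f = g) (U : Y.Opens) (V : X.Opens)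
    (e : V ≤ f ⁻¹ᵁ U) (e' : V ≤ g ⁻¹ᵁ U) (s : Γ(Y, U)) : f.appLE U V e s = g.appLE U V e' s := by
  subst hfg
  rfl

/-- The iterated Frobenius on sections. -/
theorem iter_frob_apply (X : Scheme.{u}) (p : ℕ) [Fact p.Prime] [FrobSch.IsCharP X p] (m : ℕ) :
    (∀ x : X, (End.asHom (End.of (FrobSch.frob X p) ^ m)).base x = x) ∧
      ∀ (U : X.Opens) (h : U ≤ (End.asHom (End.of (FrobSch.frob X p) ^ m)) ⁻¹ᵁ U) (s : Γ(X, U)),
        (End.asHom (End.of (FrobSch.frob X p) ^ m)).appLE U U h s = s ^ p ^ m := by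
  induction m with
  | zero =>
    refine ⟨fun x => rfl, fun U h s => ?_⟩
    change (𝟙 X : X ⟶ X).appLE U U h s = _
    rw [pow_zero, pow_one]
    change (X.presheaf.map (𝟙 _)).hom s = s
    rw [X.presheaf.map_id]
    rfl
  | succ m ih =>
    have hs : End.asHom (End.of (FrobSch.frob X p) ^ (m + 1)) =
        FrobSch.frob X p ≫ End.asHom (End.of (FrobSch.frob X p) ^ m) := by
      rw [pow_succ]
      rfl
    refine ⟨fun x => ?_, fun U h s => ?_⟩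
    · rw [hs]
      exact ih.1 x
    · have h' : U ≤ (End.asHom (End.of (FrobSch.frob X p) ^ m)) ⁻¹ᵁ U :=
        fun x hx => by show (End.asHom (End.of (FrobSch.frob X p) ^ m)).base x ∈ U; rw [ih.1]; exact hx
      have hc := Scheme.Hom.appLE_comp_appLE (FrobSch.frob X p)
        (End.asHom (End.of (FrobSch.frob X p) ^ m)) U U U h' le_rfl
      rw [pow_succ p m, pow_mul, ← ih.2 U h']
      have hc2 := congrArg (fun f => f.hom s) hc
      simp only [CommRingCat.hom_comp, RingHom.comp_apply] at hc2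
      have hfr : ∀ t : Γ(X, U), (FrobSch.frob X p).appLE U U le_rfl t = t ^ p := fun t => by
        change ((FrobSch.frob X p).app U ≫ X.presheaf.map (𝟙 _)).hom t = _
        rw [X.presheaf.map_id]
        rfl
      exact (appLE_hom_congr hs U U h (fun x hx => h' hx) s).trans (hc2.symm.trans (hfr _))

theorem le_preimage {X : Scheme.{u}} (F : X ⟶ X) (hF : ∀ x : X, F.base x = x) (U : X.Opens) : U ≤ F ⁻¹ᵁ U :=
  fun x hx => by show F.base x ∈ U; rw [hF]; exact hx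

/-- Sections of a base change to `Spec K` are generated by sections of the two factors. -/
theorem mem_of_gen {C C₀ S T : Scheme.{u}} [IsAffine S] [IsAffine T] {πC₀ : C ⟶ C₀} {πK : C ⟶ T}
    {f₀ : C₀ ⟶ S} {g : T ⟶ S} (hC : IsPullback πC₀ πK f₀ g) (U : C₀.affineOpens)
    (R : Subring Γ(C, πC₀ ⁻¹ᵁ U.1)) (h1 : ∀ a, πC₀.appLE U.1 (πC₀ ⁻¹ᵁ U.1) le_rfl a ∈ R)
    (h2 : ∀ b, πK.appLE ⊤ (πC₀ ⁻¹ᵁ U.1) le_top b ∈ R) (x : Γ(C, πC₀ ⁻¹ᵁ U.1)) : x ∈ R := by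
  haveI : IsAffine U.1.toScheme := U.2
  have hp : IsPullback (πC₀ ∣_ U.1) ((πC₀ ⁻¹ᵁ U.1).ι ≫ πK) (U.1.ι ≫ f₀) g :=
    (isPullback_morphismRestrict πC₀ U.1).paste_vert hC
  have hpo := isPushout_appTop_of_isPullback hp
  let e := (πC₀ ⁻¹ᵁ U.1).topIso
  let R' : Subring Γ((πC₀ ⁻¹ᵁ U.1).toScheme, ⊤) := R.comap e.hom.hom
  have hA : ∀ a, (πC₀ ∣_ U.1).appTop a ∈ R' := fun a => by
    change e.hom ((πC₀ ∣_ U.1).appTop a) ∈ R
    have h := Scheme.Hom.resLE_app_top πC₀ (U := U.1) (V := πC₀ ⁻¹ᵁ U.1) le_rfl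
    rw [Scheme.Hom.resLE_eq_morphismRestrict] at h
    rw [Scheme.Hom.appTop, h]
    simp only [e, CommRingCat.hom_comp, RingHom.comp_apply]
    rw [← CommRingCat.comp_apply, Iso.inv_hom_id]
    exact h1 _
  have hB : ∀ b, ((πC₀ ⁻¹ᵁ U.1).ι ≫ πK).appTop b ∈ R' := fun b => by
    change e.hom (((πC₀ ⁻¹ᵁ U.1).ι ≫ πK).appTop b) ∈ R
    have h : ((πC₀ ⁻¹ᵁ U.1).ι ≫ πK).appTop ≫ e.hom = πK.appLE ⊤ (πC₀ ⁻¹ᵁ U.1) le_top := by
      simp only [e, Scheme.Hom.appTop, Scheme.Hom.comp_app, Scheme.Opens.ι_app, Scheme.Opens.topIso_hom,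
        Scheme.Hom.appLE]
      erw [Category.assoc, ← Functor.map_comp]
      rfl
    rw [← CommRingCat.comp_apply, h]
    exact h2 b
  let α : _ ⟶ CommRingCat.of R' := CommRingCat.ofHom ((πC₀ ∣_ U.1).appTop.hom.codRestrict R' hA)
  let β : _ ⟶ CommRingCat.of R' := CommRingCat.ofHom ((((πC₀ ⁻¹ᵁ U.1).ι ≫ πK).appTop).hom.codRestrict R' hB)
  have hw : (U.1.ι ≫ f₀).appTop ≫ α = g.appTop ≫ β := by
    refine CommRingCat.hom_ext (RingHom.ext fun z => Subtype.ext ?_)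
    exact congrArg (fun f => f.hom z) hpo.w
  have hid : hpo.desc α β hw ≫ CommRingCat.ofHom R'.subtype = 𝟙 _ := by
    refine hpo.hom_ext ?_ ?_
    · rw [IsPushout.inl_desc_assoc, Category.comp_id]
      rfl
    · rw [IsPushout.inr_desc_assoc, Category.comp_id]
      rfl
  have h := congrArg (fun f => f.hom (e.inv x)) hid
  simp only [CommRingCat.hom_comp, RingHom.comp_apply, CommRingCat.hom_id, RingHom.id_apply] at h
  have hmem := (hpo.desc α β hw (e.inv x)).2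
  change e.hom (hpo.desc α β hw (e.inv x)).1 ∈ R at hmem
  rw [show (hpo.desc α β hw (e.inv x)).1 = e.inv x from h] at hmem
  rwa [← CommRingCat.comp_apply, Iso.inv_hom_id] at hmem

variable {C C₀ X : Scheme.{u}} (p : ℕ) [Fact p.Prime] (k₀ : Type u) [Field k₀] [CharP k₀ p]
  (K : Type u) [Field K] [Algebra k₀ K] [IsAlgClosed K]
  (f₀ : C₀ ⟶ Spec (CommRingCat.of k₀)) [FrobSch.IsCharP C₀ p]
  (πC₀ : C ⟶ C₀) (πK : C ⟶ Spec (CommRingCat.of K))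
  (hC : IsPullback πC₀ πK f₀ (Spec.map (CommRingCat.ofHom (algebraMap k₀ K))))
  (m : ℕ) (Fr : C ⟶ C)
  (hFr₀ : Fr ≫ πC₀ = πC₀ ≫ End.asHom (End.of (FrobSch.frob C₀ p) ^ m)) (hFrK : Fr ≫ πK = πK)

include hC hFr₀ hFrK in
theorem exists_pow_eq (U : C₀.affineOpens) (e : πC₀ ⁻¹ᵁ U.1 ≤ Fr ⁻¹ᵁ (πC₀ ⁻¹ᵁ U.1))
    (x : Γ(C, πC₀ ⁻¹ᵁ U.1)) :
    ∃ y, Fr.appLE (πC₀ ⁻¹ᵁ U.1) (πC₀ ⁻¹ᵁ U.1) e x = y ^ p ^ m := by
  haveI := FrobSch.IsCharP.of_hom πC₀ p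
  haveI : CharP K p := charP_of_injective_algebraMap (algebraMap k₀ K).injective p
  let P : Γ(C, πC₀ ⁻¹ᵁ U.1) →+* Γ(C, πC₀ ⁻¹ᵁ U.1) :=
    ((RingHom.id _) : Γ(C, πC₀ ⁻¹ᵁ U.1) →+* Γ(C, πC₀ ⁻¹ᵁ U.1))
  let Qm : ∀ (n : ℕ), Γ(C, πC₀ ⁻¹ᵁ U.1) →+* Γ(C, πC₀ ⁻¹ᵁ U.1) := fun n =>
    Nat.rec P (fun _ f => (FrobSch.powHom p _ (FrobSch.natCast_eq_zero_app C p (πC₀ ⁻¹ᵁ U.1))).comp f) n
  have hQ : ∀ (n : ℕ) (y : Γ(C, πC₀ ⁻¹ᵁ U.1)), Qm n y = y ^ p ^ n := by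
    intro n
    induction n with
    | zero => intro y; simp [Qm, P]
    | succ n ih =>
      intro y
      change (FrobSch.powHom p _ (FrobSch.natCast_eq_zero_app C p (πC₀ ⁻¹ᵁ U.1))) (Qm n y) = _
      rw [FrobSch.powHom_apply, ih, ← pow_mul, pow_succ]
  suffices h : x ∈ (Qm m).range.comap (Fr.appLE (πC₀ ⁻¹ᵁ U.1) (πC₀ ⁻¹ᵁ U.1) e).hom by
    obtain ⟨y, hy⟩ := h
    exact ⟨y, hy.symm.trans (hQ m y)⟩
  have hF := iter_frob_apply C₀ p m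
  have hUF : U.1 ≤ (End.asHom (End.of (FrobSch.frob C₀ p) ^ m)) ⁻¹ᵁ U.1 := le_preimage _ hF.1 _
  refine mem_of_gen hC U _ (fun a => ?_) (fun b => ?_) x
  · refine ⟨πC₀.appLE U.1 (πC₀ ⁻¹ᵁ U.1) le_rfl a, (hQ m _).trans ?_⟩
    have h1 := congrArg (fun f => f.hom a) (Scheme.Hom.appLE_comp_appLE Fr πC₀ U.1 (πC₀ ⁻¹ᵁ U.1) (πC₀ ⁻¹ᵁ U.1) le_rfl e)
    have h2 := congrArg (fun f => f.hom a)
      (Scheme.Hom.appLE_comp_appLE πC₀ (End.asHom (End.of (FrobSch.frob C₀ p) ^ m)) U.1 U.1 (πC₀ ⁻¹ᵁ U.1) hUF le_rfl)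
    simp only [CommRingCat.hom_comp, RingHom.comp_apply] at h1 h2
    rw [hF.2 U.1 hUF a, map_pow] at h2
    refine h2.trans (Eq.trans ?_ h1.symm)
    exact (appLE_hom_congr hFr₀ _ _ _ _ a).symm
  · haveI : PerfectRing K p := PerfectField.toPerfectRing p
    obtain ⟨μ, hμ⟩ := (iterateFrobeniusEquiv K p m).surjective ((Scheme.ΓSpecIso (CommRingCat.of K)).hom b)
    have hb : b = (Scheme.ΓSpecIso (CommRingCat.of K)).inv μ ^ p ^ m := by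
      rw [← map_pow, ← iterateFrobeniusEquiv_def, hμ, ← CommRingCat.comp_apply, Iso.hom_inv_id]
      rfl
    refine ⟨πK.appLE ⊤ (πC₀ ⁻¹ᵁ U.1) le_top ((Scheme.ΓSpecIso (CommRingCat.of K)).inv μ), (hQ m _).trans ?_⟩
    have h1 := congrArg (fun f => f.hom b) (Scheme.Hom.appLE_comp_appLE Fr πK ⊤ (πC₀ ⁻¹ᵁ U.1) (πC₀ ⁻¹ᵁ U.1) le_top e)
    simp only [CommRingCat.hom_comp, RingHom.comp_apply] at h1
    rw [← map_pow, ← hb]
    refine Eq.trans ?_ h1.symm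
    exact (appLE_hom_congr hFrK _ _ _ _ b).symm

include hC hFr₀ hFrK in
/-- The twisted correspondence is contracting near an invariant closed subscheme. -/
theorem comap_le (c₁ c₂ : C ⟶ X) (I : X.IdealSheafData) (d : ℕ)
    (hd : (I.comap c₂).radical ^ d ≤ I.comap c₂) (hn : d < p ^ m)
    (hinv : (Fr ≫ c₁).base '' (c₂.base ⁻¹' (I.support : Set X)) ⊆ (I.support : Set X)) :
    I.comap (Fr ≫ c₁) ≤ I.comap c₂ ∧ I.comap (Fr ≫ c₁) ^ d ≤ I.comap c₂ ^ (d + 1) := by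
  set J := I.comap c₂
  set L := I.comap (Fr ≫ c₁) with hLdef
  have hLJ : L ≤ J.radical := by
    rw [← Scheme.IdealSheafData.vanishingIdeal_support (I := J)]
    refine le_trans (Scheme.IdealSheafData.le_radical L) ?_
    rw [← Scheme.IdealSheafData.vanishingIdeal_support (I := L)]
    refine Scheme.IdealSheafData.vanishingIdeal_antimono ?_
    intro x hx
    simp only [J, L, Scheme.IdealSheafData.support_comap] at hx ⊢
    exact hinv ⟨x, hx, rfl⟩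
  have key : ∀ U : C₀.affineOpens, ∃ hV : IsAffineOpen (πC₀ ⁻¹ᵁ U.1),
      L.ideal ⟨_, hV⟩ ≤ (J.radical.ideal ⟨_, hV⟩) ^ p ^ m := by
    intro U
    haveI : IsAffineHom πC₀ := MorphismProperty.of_isPullback hC.flip inferInstance
    have hV : IsAffineOpen (πC₀ ⁻¹ᵁ U.1) := U.2.preimage πC₀
    have hb : ∀ x : C, πC₀.base (Fr.base x) = πC₀.base x := fun x => by
      rw [← Scheme.Hom.comp_apply, hFr₀, Scheme.Hom.comp_apply]
      exact (iter_frob_apply C₀ p m).1 _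
    have e : πC₀ ⁻¹ᵁ U.1 ≤ Fr ⁻¹ᵁ (πC₀ ⁻¹ᵁ U.1) := fun x hx => by
      show πC₀.base (Fr.base x) ∈ U.1
      rw [hb]
      exact hx
    have hLV : L.ideal ⟨_, hV⟩ = ((I.comap c₁).ideal ⟨_, hV⟩).map (Fr.appLE _ _ e).hom := by
      rw [hLdef, Scheme.IdealSheafData.comap_comp]
      exact Groth.L22.Ideals.comap_ideal Fr (I.comap c₁) ⟨_, hV⟩ ⟨_, hV⟩ e
    refine ⟨hV, ?_⟩
    rw [hLV, Ideal.map_le_iff_le_comap]
    intro x hx
    obtain ⟨y, hy⟩ := exists_pow_eq p k₀ K f₀ πC₀ πK hC m Fr hFr₀ hFrK U e x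
    have hxJ : Fr.appLE _ _ e x ∈ J.radical.ideal ⟨_, hV⟩ := hLJ _ (hLV ▸ Ideal.mem_map_of_mem _ hx)
    rw [Ideal.mem_comap, hy]
    refine Ideal.pow_mem_pow ?_ _
    rw [Scheme.IdealSheafData.radical_ideal] at hxJ ⊢
    exact (Ideal.radical_isRadical _) ⟨p ^ m, hy ▸ hxJ⟩
  choose hV hle using key
  have hcov : ⨆ U : C₀.affineOpens, ((⟨_, hV U⟩ : C.affineOpens) : C.Opens) = ⊤ := by
    refine eq_top_iff.2 fun x _ => ?_
    obtain ⟨_, ⟨U, hU, rfl⟩, hxU, -⟩ :=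
      C₀.isBasis_affineOpens.exists_subset_of_mem_open (Set.mem_univ (πC₀.base x)) isOpen_univ
    exact Opens.mem_iSup.2 ⟨⟨U, hU⟩, hxU⟩
  have hdV : ∀ V, (J.radical.ideal V) ^ d ≤ J.ideal V := fun V => hd V
  refine ⟨Scheme.IdealSheafData.le_of_iSup_eq_top _ hcov fun U => ?_,
    Scheme.IdealSheafData.le_of_iSup_eq_top _ hcov fun U => ?_⟩
  · exact (hle U).trans ((Ideal.pow_le_pow_right hn.le).trans (hdV _))
  · rw [Scheme.IdealSheafData.ideal_pow, Scheme.IdealSheafData.ideal_pow, Pi.pow_apply, Pi.pow_apply]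
    calc L.ideal ⟨_, hV U⟩ ^ d ≤ ((J.radical.ideal ⟨_, hV U⟩) ^ p ^ m) ^ d := Ideal.pow_right_mono (hle U) d
      _ = ((J.radical.ideal ⟨_, hV U⟩) ^ d) ^ p ^ m := by rw [← pow_mul, mul_comm, pow_mul]
      _ ≤ J.ideal ⟨_, hV U⟩ ^ p ^ m := Ideal.pow_right_mono (hdV _) _
      _ ≤ J.ideal ⟨_, hV U⟩ ^ (d + 1) := Ideal.pow_le_pow_right hn

end Groth.L04.FrobTwist
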