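import Groth.Agent.L04.Corr.FrobTwist
import Mathlib.FieldTheory.Finite.Basic
import Mathlib.FieldTheory.IsAlgClosed.AlgebraicClosure
import Mathlib.FieldTheory.Perfect

/-!
A geometric Frobenius twist is a homeomorphism, inverse to the arithmetic Frobenius.
-/

set_option autoImplicit false
universe u

open CategoryTheory CategoryTheory.Limits AlgebraicGeometry TopologicalSpace

namespace Groth.L04.FrobTwist

theorem iter_frob_comp {X Y : Scheme.{u}} (p : ℕ) [Fact p.Prime] [FrobSch.IsCharP X p]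
    [FrobSch.IsCharP Y p] (f : X ⟶ Y) (m : ℕ) :
    End.asHom (End.of (FrobSch.frob X p) ^ m) ≫ f = f ≫ End.asHom (End.of (FrobSch.frob Y p) ^ m) := by
  induction m with
  | zero =>
    change (𝟙 X : X ⟶ X) ≫ f = f ≫ 𝟙 Y
    rw [Category.id_comp, Category.comp_id]
  | succ m ih =>
    rw [pow_succ, pow_succ]
    change (FrobSch.frob X p ≫ End.asHom (End.of (FrobSch.frob X p) ^ m)) ≫ f =
      f ≫ FrobSch.frob Y p ≫ End.asHom (End.of (FrobSch.frob Y p) ^ m)
    rw [Category.assoc, ih, ← Category.assoc, FrobSch.frob_comp, Category.assoc]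

theorem appTop_iter_frob (X : Scheme.{u}) (p : ℕ) [Fact p.Prime] [FrobSch.IsCharP X p] (m : ℕ)
    (s : Γ(X, ⊤)) : (End.asHom (End.of (FrobSch.frob X p) ^ m)).appTop s = s ^ p ^ m := by
  rw [← (iter_frob_apply X p m).2 ⊤ le_rfl s, Scheme.Hom.appTop, Scheme.Hom.app_eq_appLE]
  rfl

variable {C C₀ : Scheme.{u}} (p : ℕ) [Fact p.Prime] (k₀ : Type u) [Field k₀] [Fintype k₀] [CharP k₀ p]
  (e : ℕ) (hq : Fintype.card k₀ = p ^ e)
  (K : Type u) [Field K] [Algebra k₀ K] [IsAlgClosed K]
  (f₀ : C₀ ⟶ Spec (CommRingCat.of k₀)) [FrobSch.IsCharP C₀ p]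
  (πC₀ : C ⟶ C₀) (πK : C ⟶ Spec (CommRingCat.of K))
  (hC : IsPullback πC₀ πK f₀ (Spec.map (CommRingCat.ofHom (algebraMap k₀ K))))
  (n : ℕ) (Fr : C ⟶ C)
  (hFr₀ : Fr ≫ πC₀ = πC₀ ≫ End.asHom (End.of (FrobSch.frob C₀ p) ^ (e * n))) (hFrK : Fr ≫ πK = πK)

include hq hC hFr₀ hFrK in
theorem isHomeomorph_frobTwist : IsHomeomorph Fr.base := by
  haveI : CharP K p := charP_of_injective_algebraMap (algebraMap k₀ K).injective p
  haveI := FrobSch.IsCharP.of_hom πC₀ p
  set φ := End.asHom (End.of (FrobSch.frob (Spec (CommRingCat.of K)) p) ^ (e * n)) with hφ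
  have hk : End.asHom (End.of (FrobSch.frob (Spec (CommRingCat.of k₀)) p) ^ (e * n)) = 𝟙 _ := by
    refine ext_of_isAffine (CommRingCat.hom_ext (RingHom.ext fun s => ?_))
    rw [appTop_iter_frob]
    change s ^ p ^ (e * n) = s
    apply (Scheme.ΓSpecIso (CommRingCat.of k₀)).commRingCatIsoToRingEquiv.injective
    rw [map_pow, pow_mul, ← hq]
    exact FiniteField.pow_card_pow n _
  have hφg : φ ≫ Spec.map (CommRingCat.ofHom (algebraMap k₀ K)) =
      Spec.map (CommRingCat.ofHom (algebraMap k₀ K)) := by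
    rw [hφ, iter_frob_comp, hk, Category.comp_id]
  haveI : IsIso φ := by
    refine ((MorphismProperty.isomorphisms Scheme.{u}).arrow_mk_iso_iff (arrowIsoSpecΓOfIsAffine φ)).2 ?_
    change IsIso (Spec.map φ.appTop)
    suffices h : IsIso φ.appTop from inferInstance
    rw [ConcreteCategory.isIso_iff_bijective]
    haveI : PerfectRing K p := PerfectField.toPerfectRing p
    let ε := (Scheme.ΓSpecIso (CommRingCat.of K)).commRingCatIsoToRingEquiv
    have h := (ε.symm.bijective.comp (bijective_iterateFrobenius K p (e * n))).comp ε.bijective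
    refine (congrArg Function.Bijective (funext fun s => ?_)).mp h
    simp only [Function.comp_apply, iterateFrobenius_def]
    rw [map_pow, RingEquiv.symm_apply_apply]
    exact (appTop_iter_frob _ p _ s).symm
  let G := hC.lift πC₀ (πK ≫ φ) (by rw [Category.assoc, hφg, hC.w])
  have hG : IsIso G := by
    have hp : IsPullback G πK πK φ := by
      refine IsPullback.of_right ?_ (hC.lift_snd _ _ _) hC
      rw [hC.lift_fst, hφg]
      exact hC
    exact MorphismProperty.of_isPullback (P := MorphismProperty.isomorphisms Scheme.{u}) hp.flip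
      (MorphismProperty.isomorphisms.infer_property φ)
  have hFG : Fr ≫ G = End.asHom (End.of (FrobSch.frob C p) ^ (e * n)) := by
    apply hC.hom_ext
    · rw [Category.assoc, hC.lift_fst, hFr₀, iter_frob_comp]
    · rw [Category.assoc, hC.lift_snd, ← Category.assoc, hFrK, iter_frob_comp]
  have hid : ∀ z, G.base (Fr.base z) = z := fun z => by
    rw [← Scheme.Hom.comp_apply, hFG]
    exact (iter_frob_apply C p (e * n)).1 z
  let h := TopCat.homeoOfIso (asIso G.base)
  have he : ⇑h.symm = ⇑Fr.base := funext fun z => ?_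
  · exact (he ▸ h.symm.isHomeomorph :)
  exact ((h.symm_apply_apply (Fr.base z)).symm.trans (congrArg h.symm (hid z))).symm

end Groth.L04.FrobTwist
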