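import Groth.Agent.L04.Corr.FrobTwist
import Mathlib.RingTheory.Ideal.IdempotentFG

/-!
General form of the contraction estimate for Frobenius twists, and openness of supports.
-/

set_option autoImplicit false
universe u

open CategoryTheory CategoryTheory.Limits AlgebraicGeometry TopologicalSpace

namespace Groth.L04.FrobTwist

/-- On a locally noetherian scheme, `L ^ k ≤ L ^ (k + 1)` makes the support of `L` open. -/
theorem isOpen_support_of_pow_le {Y : Scheme.{u}} [IsLocallyNoetherian Y] (L : Y.IdealSheafData)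
    (k : ℕ) (h0 : L ^ k ≤ L ^ (k + 1)) : IsOpen (L.support : Set Y) := by
  have hL : ∀ n, L ^ k ≤ L ^ (k + n) := by
    intro n
    induction n with
    | zero => exact le_rfl
    | succ n ih =>
      refine ih.trans fun U => ?_
      have h := Ideal.mul_mono_right (I := (L.ideal U) ^ n) (h0 U)
      simp only [Scheme.IdealSheafData.ideal_pow, Pi.pow_apply] at h ⊢
      calc L.ideal U ^ (k + n) = L.ideal U ^ n * L.ideal U ^ k := by
            rw [← pow_add, add_comm]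
        _ ≤ L.ideal U ^ n * L.ideal U ^ (k + 1) := h
        _ = L.ideal U ^ (k + (n + 1)) := by rw [← pow_add]; congr 1; omega
  refine isOpen_iff_forall_mem_open.2 fun x hx => ?_
  obtain ⟨_, ⟨U, hU, rfl⟩, hxU, -⟩ :=
    Y.isBasis_affineOpens.exists_subset_of_mem_open (Set.mem_univ x) isOpen_univ
  let U' : Y.affineOpens := ⟨U, hU⟩
  haveI : IsNoetherianRing Γ(Y, U) := IsLocallyNoetherian.component_noetherian U'
  set N := L.ideal U'
  have hidem : IsIdempotentElem (N ^ k) := by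
    refine le_antisymm Ideal.mul_le_left ?_
    rw [← pow_add]
    exact hL k U'
  obtain ⟨e, he, hNe⟩ := (Ideal.isIdempotentElem_iff_of_fg _ (IsNoetherian.noetherian (N ^ k))).1 hidem
  have hxN : x ∈ Y.zeroLocus (U := U) (N : Set Γ(Y, U)) :=
    (Scheme.IdealSheafData.mem_supportSet_iff_of_mem (U := U') hxU).1 hx
  refine ⟨(Y.basicOpen (1 - e) : Set Y), fun y hy => ?_, (Y.basicOpen (1 - e)).2, ?_⟩
  · have hyU : y ∈ U := Y.basicOpen_le _ hy
    refine (Scheme.IdealSheafData.mem_supportSet_iff_of_mem (U := U') hyU).2 ?_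
    rw [Scheme.mem_zeroLocus_iff]
    intro a ha hya
    obtain ⟨r, hr⟩ := Ideal.mem_span_singleton'.1 (hNe ▸ Ideal.pow_mem_pow ha k)
    have hy' : y ∈ Y.basicOpen (a ^ k * (1 - e)) := by
      rw [Scheme.basicOpen_mul]
      refine ⟨?_, hy⟩
      rcases k with _ | j
      · rw [pow_zero, Scheme.basicOpen_of_isUnit _ isUnit_one]
        exact hyU
      · rw [Y.basicOpen_pow _ (Nat.succ_pos j)]
        exact hya
    rw [← hr, mul_assoc, show e * (1 - e) = 0 by rw [mul_sub, mul_one, he.eq, sub_self], mul_zero,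
      Scheme.basicOpen_zero] at hy'
    exact hy'
  · by_contra hx1
    have hxe : x ∈ Y.basicOpen e := by
      have h : x ∈ Y.basicOpen (e + (1 - e)) := by
        rw [add_sub_cancel, Scheme.basicOpen_of_isUnit _ isUnit_one]
        exact hxU
      exact (Y.basicOpen_add_le e (1 - e) h).resolve_right hx1
    have he' : e ∈ N ^ k := hNe ▸ Ideal.mem_span_singleton_self e
    rcases k with _ | j
    · have htop : N = ⊤ := top_le_iff.1 (by simpa [N] using hL 1 U')
      rw [Scheme.mem_zeroLocus_iff] at hxN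
      exact hxN 1 (htop ▸ trivial) (by rw [Scheme.basicOpen_of_isUnit _ isUnit_one]; exact hxU)
    · rw [Scheme.mem_zeroLocus_iff] at hxN
      exact hxN e (Ideal.pow_le_self (Nat.succ_ne_zero j) he') hxe

variable {C C₀ : Scheme.{u}} (p : ℕ) [Fact p.Prime] (k₀ : Type u) [Field k₀] [CharP k₀ p]
  (K : Type u) [Field K] [Algebra k₀ K] [IsAlgClosed K]
  (f₀ : C₀ ⟶ Spec (CommRingCat.of k₀)) [FrobSch.IsCharP C₀ p]
  (πC₀ : C ⟶ C₀) (πK : C ⟶ Spec (CommRingCat.of K))
  (hC : IsPullback πC₀ πK f₀ (Spec.map (CommRingCat.ofHom (algebraMap k₀ K))))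
  (m : ℕ) (Fr : C ⟶ C)
  (hFr₀ : Fr ≫ πC₀ = πC₀ ≫ End.asHom (End.of (FrobSch.frob C₀ p) ^ m)) (hFrK : Fr ≫ πK = πK)

include hC hFr₀ hFrK in
/-- The twist is contracting near a closed subscheme, for ideals on `C`. -/
theorem comap_le' (I' J : C.IdealSheafData) (d : ℕ) (hd : J.radical ^ d ≤ J) (hn : d < p ^ m)
    (hinv : (J.support : Set C) ⊆ ((I'.comap Fr).support : Set C)) :
    I'.comap Fr ≤ J ∧ (I'.comap Fr) ^ d ≤ J ^ (d + 1) := by
  set L := I'.comap Fr with hLdef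
  have hLJ : L ≤ J.radical := by
    rw [← Scheme.IdealSheafData.vanishingIdeal_support (I := J)]
    refine le_trans (Scheme.IdealSheafData.le_radical L) ?_
    rw [← Scheme.IdealSheafData.vanishingIdeal_support (I := L)]
    refine Scheme.IdealSheafData.vanishingIdeal_antimono ?_
    exact hinv
  have key : ∀ U : C₀.affineOpens, ∃ hV : IsAffineOpen (πC₀ ⁻¹ᵁ U.1),
      L.ideal ⟨_, hV⟩ ≤ (J.radical.ideal ⟨_, hV⟩) ^ p ^ m := by
    intro U
    haveI : IsAffineHom πC₀ := MorphismProperty.of_isPullback hC.flip inferInstance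
    have hV : IsAffineOpen (πC₀ ⁻¹ᵁ U.1) := U.2.preimage πC₀
    have hb : ∀ x : C, πC₀.base (Fr.base x) = πC₀.base x := fun x => by
      rw [← Scheme.Hom.comp_apply, hFr₀, Scheme.Hom.comp_apply]
      exact (iter_frob_apply C₀ p m).1 _
    have e : πC₀ ⁻¹ᵁ U.1 ≤ Fr ⁻¹ᵁ (πC₀ ⁻¹ᵁ U.1) := fun x hx => by
      show πC₀.base (Fr.base x) ∈ U.1
      rw [hb]
      exact hx
    have hLV : L.ideal ⟨_, hV⟩ = (I'.ideal ⟨_, hV⟩).map (Fr.appLE _ _ e).hom := by
      rw [hLdef]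
      exact Groth.L22.Ideals.comap_ideal Fr I'  ⟨_, hV⟩ ⟨_, hV⟩ e
    refine ⟨hV, ?_⟩
    rw [hLV, Ideal.map_le_iff_le_comap]
    intro x hx
    obtain ⟨y, hy⟩ := exists_pow_eq p k₀ K f₀ πC₀ πK hC m Fr hFr₀ hFrK U e x
    have hxJ : Fr.appLE _ _ e x ∈ J.radical.ideal ⟨_, hV⟩ := hLJ _ (hLV ▸ Ideal.mem_map_of_mem _ hx)
    rw [Ideal.mem_comap, hy]
    refine Ideal.pow_mem_pow ?_ _
    rw [Scheme.IdealSheafData.radical_ideal] at hxJ ⊢
    exact (Ideal.radical_isRadical _) ⟨p ^ m, hy ▸ hxJ⟩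
  choose hV hle using key
  have hcov : ⨆ U : C₀.affineOpens, ((⟨_, hV U⟩ : C.affineOpens) : C.Opens) = ⊤ := by
    refine eq_top_iff.2 fun x _ => ?_
    obtain ⟨_, ⟨U, hU, rfl⟩, hxU, -⟩ :=
      C₀.isBasis_affineOpens.exists_subset_of_mem_open (Set.mem_univ (πC₀.base x)) isOpen_univ
    exact Opens.mem_iSup.2 ⟨⟨U, hU⟩, hxU⟩
  have hdV : ∀ V, (J.radical.ideal V) ^ d ≤ J.ideal V := fun V => hd V
  refine ⟨Scheme.IdealSheafData.le_of_iSup_eq_top _ hcov fun U => ?_,
    Scheme.IdealSheafData.le_of_iSup_eq_top _ hcov fun U => ?_⟩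
  · exact (hle U).trans ((Ideal.pow_le_pow_right hn.le).trans (hdV _))
  · rw [Scheme.IdealSheafData.ideal_pow, Scheme.IdealSheafData.ideal_pow, Pi.pow_apply, Pi.pow_apply]
    calc L.ideal ⟨_, hV U⟩ ^ d ≤ ((J.radical.ideal ⟨_, hV U⟩) ^ p ^ m) ^ d := Ideal.pow_right_mono (hle U) d
      _ = ((J.radical.ideal ⟨_, hV U⟩) ^ d) ^ p ^ m := by rw [← pow_mul, mul_comm, pow_mul]
      _ ≤ J.ideal ⟨_, hV U⟩ ^ p ^ m := Ideal.pow_right_mono (hdV _) _
      _ ≤ J.ideal ⟨_, hV U⟩ ^ (d + 1) := Ideal.pow_le_pow_right hn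

end Groth.L04.FrobTwist
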